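import Groth.Prelude.Def_W4c5adicflatcomplDec
import Mathlib.RingTheory.AdicCompletion.Completeness
import Mathlib.RingTheory.AdicCompletion.Functoriality
import Mathlib.LinearAlgebra.Finsupp.LinearCombination

/-!
Adically decaying functions: sums, and the completion of a free module.
-/

set_option autoImplicit false
universe u v w w'

open W4c5adicflatcompl

namespace Groth.Agent.DecayLib

variable {A : Type u} [CommRing A] (I : Ideal A) {Z : Type v} {M : Type w} [AddCommGroup M] [Module A M]

/-- `m` is the adic sum of the family `f`. -/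
def IsSum (f : Z → M) (m : M) : Prop :=
  ∀ n : ℕ, ∃ S : Finset Z,
    (∀ z, z ∉ S → f z ∈ (I ^ n • ⊤ : Submodule A M)) ∧ m - (∑ z ∈ S, f z) ∈ (I ^ n • ⊤ : Submodule A M)

theorem pow_smul_top_antitone {m n : ℕ} (h : m ≤ n) :
    (I ^ n • ⊤ : Submodule A M) ≤ I ^ m • ⊤ :=
  Submodule.smul_mono_left (Ideal.pow_le_pow_right h)

theorem sum_congr_mod {f : Z → M} {n : ℕ} {S T : Finset Z}
    (hS : ∀ z, z ∉ S → f z ∈ (I ^ n • ⊤ : Submodule A M))
    (hT : ∀ z, z ∉ T → f z ∈ (I ^ n • ⊤ : Submodule A M)) :
    (∑ z ∈ S, f z) - (∑ z ∈ T, f z) ∈ (I ^ n • ⊤ : Submodule A M) := by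
  classical
  have h : ∀ U V : Finset Z, (∀ z, z ∉ V → f z ∈ (I ^ n • ⊤ : Submodule A M)) →
      (∑ z ∈ U \ V, f z) ∈ (I ^ n • ⊤ : Submodule A M) := fun U V hV =>
    Submodule.sum_mem _ fun z hz => hV z (Finset.mem_sdiff.1 hz).2
  rw [← Finset.sum_sdiff_sub_sum_sdiff]
  exact sub_mem (h _ _ hT) (h _ _ hS)

theorem IsSum.sub_mem {f : Z → M} {m : M} (hm : IsSum I f m) {n : ℕ} {S : Finset Z}
    (hS : ∀ z, z ∉ S → f z ∈ (I ^ n • ⊤ : Submodule A M)) :
    m - (∑ z ∈ S, f z) ∈ (I ^ n • ⊤ : Submodule A M) := by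
  obtain ⟨T, hT, hT'⟩ := hm n
  rw [← sub_add_sub_cancel m (∑ z ∈ T, f z) (∑ z ∈ S, f z)]
  exact add_mem hT' (sum_congr_mod I hT hS)

theorem mem_decaying_of_isSum {f : Z → M} {m : M} (h : IsSum I f m) : f ∈ decaying I Z M := by
  intro n
  obtain ⟨S, hS, -⟩ := h n
  refine S.finite_toSet.subset fun z hz => ?_
  by_contra h'
  exact hz (hS z h')

theorem IsSum.unique [IsHausdorff I M] {f : Z → M} {m m' : M} (h : IsSum I f m) (h' : IsSum I f m') :
    m = m' := by
  refine sub_eq_zero.1 (IsHausdorff.haus ‹_› _ fun n => ?_)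
  rw [SModEq.zero]
  obtain ⟨T, hT, hT'⟩ := h n
  rw [← sub_sub_sub_cancel_right m m' (∑ z ∈ T, f z)]
  exact Submodule.sub_mem _ hT' (h'.sub_mem I hT)

theorem exists_isSum [IsPrecomplete I M] {f : Z → M} (hf : f ∈ decaying I Z M) : ∃ m, IsSum I f m := by
  classical
  let S : ℕ → Finset Z := fun n => (hf n).toFinset
  have hS : ∀ n z, z ∉ S n → f z ∈ (I ^ n • ⊤ : Submodule A M) := fun n z hz => by
    by_contra h
    exact hz ((hf n).mem_toFinset.2 h)
  obtain ⟨L, hL⟩ := IsPrecomplete.prec (I := I) (M := M) ‹_› (f := fun n => ∑ z ∈ S n, f z) fun {m n} hmn => by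
    rw [SModEq.sub_mem]
    exact sum_congr_mod I (hS m) fun z hz => pow_smul_top_antitone I hmn (hS n z hz)
  refine ⟨L, fun n => ⟨S n, hS n, ?_⟩⟩
  rw [← neg_sub]
  exact neg_mem ((SModEq.sub_mem).1 (hL n))

theorem IsSum.add {f g : Z → M} {m m' : M} (h : IsSum I f m) (h' : IsSum I g m') : IsSum I (f + g) (m + m') := by
  classical
  intro n
  obtain ⟨S, hS, -⟩ := h n
  obtain ⟨T, hT, -⟩ := h' n
  have hS' : ∀ z, z ∉ S ∪ T → f z ∈ (I ^ n • ⊤ : Submodule A M) := fun z hz =>
    hS z fun hz' => hz (Finset.mem_union_left _ hz')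
  have hT' : ∀ z, z ∉ S ∪ T → g z ∈ (I ^ n • ⊤ : Submodule A M) := fun z hz =>
    hT z fun hz' => hz (Finset.mem_union_right _ hz')
  refine ⟨S ∪ T, fun z hz => Submodule.add_mem _ (hS' z hz) (hT' z hz), ?_⟩
  simp only [Pi.add_apply, Finset.sum_add_distrib]
  rw [add_sub_add_comm]
  exact Submodule.add_mem _ (h.sub_mem I hS') (h'.sub_mem I hT')

theorem IsSum.smul {f : Z → M} {m : M} (h : IsSum I f m) (a : A) : IsSum I (a • f) (a • m) := by
  intro n
  obtain ⟨S, hS, hS'⟩ := h n
  refine ⟨S, fun z hz => Submodule.smul_mem _ a (hS z hz), ?_⟩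
  simp only [Pi.smul_apply, ← Finset.smul_sum, ← smul_sub]
  exact Submodule.smul_mem _ a hS'

theorem smul_mem_decaying {g : Z → A} (hg : g ∈ decaying I Z A) (f : Z → M) :
    (fun z => g z • f z) ∈ decaying I Z M := by
  intro n
  refine (hg n).subset fun z hz h => hz ?_
  rw [Ideal.smul_eq_mul, Ideal.mul_top] at h
  exact Submodule.smul_mem_smul h Submodule.mem_top

/-- The convergent sum of `g z • f z`, as a linear map in `g`. -/
theorem exists_linearMap_isSum [IsAdicComplete I M] (f : Z → M) :
    ∃ φ : decaying I Z A →ₗ[A] M, ∀ g : decaying I Z A, IsSum I (fun z => (g : Z → A) z • f z) (φ g) := by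
  choose φ hφ using fun g : decaying I Z A => exists_isSum I (smul_mem_decaying I g.2 f)
  refine ⟨{ toFun := φ, map_add' := fun g g' => (hφ (g + g')).unique I ?_,
            map_smul' := fun a g => (hφ (a • g)).unique I ?_ }, hφ⟩
  · convert! (hφ g).add I (hφ g') using 1
    funext z
    exact add_smul _ _ _
  · convert! (hφ g).smul I a using 1
    funext z
    exact (smul_assoc a ((g : Z → A) z) (f z))

theorem apply_mem_smul_top {f : decaying I Z M} {n : ℕ} (hf : f ∈ (I ^ n • ⊤ : Submodule A (decaying I Z M)))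
    (z : Z) : (f : Z → M) z ∈ (I ^ n • ⊤ : Submodule A M) := by
  have h := Submodule.mem_map_of_mem (f := (LinearMap.proj z).comp (decaying I Z M).subtype) hf
  rw [Submodule.map_smul''] at h
  exact Submodule.smul_mono le_rfl le_top h

theorem isHausdorff_decaying [IsHausdorff I M] : IsHausdorff I (decaying I Z M) := ⟨fun f hf => by
  refine Subtype.ext (funext fun z => IsHausdorff.haus ‹_› _ fun n => ?_)
  rw [SModEq.zero]
  exact apply_mem_smul_top I (SModEq.zero.1 (hf n)) z⟩

section Completion

variable (Z M)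

/-- The coordinates of an element of the completion of `Z →₀ M`. -/
noncomputable def coord : AdicCompletion I (Z →₀ M) →ₗ[A] (Z → AdicCompletion I M) :=
  LinearMap.pi fun z : Z => (AdicCompletion.map I (Finsupp.lapply (M := M) (R := A) z)).restrictScalars A

variable {Z M}

theorem finsupp_mem_smul_top_iff (k : ℕ) (w : Z →₀ M) :
    w ∈ (I ^ k • ⊤ : Submodule A (Z →₀ M)) ↔ ∀ a, w a ∈ (I ^ k • ⊤ : Submodule A M) := by
  constructor
  · intro hw a
    have h := Submodule.mem_map_of_mem (f := (Finsupp.lapply a : (Z →₀ M) →ₗ[A] M)) hw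
    rw [Submodule.map_smul''] at h
    exact Submodule.smul_mono le_rfl le_top h
  · intro h
    rw [← w.sum_single]
    refine Submodule.sum_mem _ fun a _ => ?_
    have h' := Submodule.mem_map_of_mem (f := (Finsupp.lsingle a : M →ₗ[A] Z →₀ M)) (h a)
    rw [Submodule.map_smul''] at h'
    exact Submodule.smul_mono le_rfl le_top h'

theorem coord_val (x : AdicCompletion I (Z →₀ M)) (z : Z) (k : ℕ) (w : Z →₀ M)
    (hw : Submodule.Quotient.mk w = x.val k) :
    (coord I Z M x z).val k = Submodule.Quotient.mk (w z) := by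
  show (AdicCompletion.map I (Finsupp.lapply z) x).val k = _
  rw [AdicCompletion.map_val_apply, ← hw]
  rfl

theorem coord_injective : Function.Injective (coord I Z M) := by
  rw [injective_iff_map_eq_zero]
  intro x hx
  apply AdicCompletion.ext
  intro k
  obtain ⟨w, hw⟩ := Submodule.Quotient.mk_surjective _ (x.val k)
  rw [← hw]
  refine (Submodule.Quotient.mk_eq_zero _).2 ((finsupp_mem_smul_top_iff I k w).2 fun a => ?_)
  have h := coord_val I x a k w hw
  rw [hx] at h
  exact (Submodule.Quotient.mk_eq_zero _).1 h.symm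

/-- If the completion is precomplete, then `I ^ n` times it is the kernel of evaluation. -/
theorem mem_pow_smul_top_iff_val [IsPrecomplete I (AdicCompletion I M)] (n : ℕ) (x : AdicCompletion I M) :
    x ∈ (I ^ n • ⊤ : Submodule A (AdicCompletion I M)) ↔ x.val n = 0 := by
  refine ⟨fun h => AdicCompletion.pow_smul_top_le_ker_eval I (M := M) n h, fun hx => ?_⟩
  choose r hr using fun k => Submodule.Quotient.mk_surjective _ (x.val k)
  have hof : ∀ (k : ℕ) (y : M), y ∈ (I ^ k • ⊤ : Submodule A M) →
      AdicCompletion.of I M y ∈ (I ^ k • ⊤ : Submodule A (AdicCompletion I M)) := fun k y hy => by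
    have h := Submodule.mem_map_of_mem (f := AdicCompletion.of I M) hy
    rw [Submodule.map_smul''] at h
    exact Submodule.smul_mono le_rfl le_top h
  have hcauchy : ∀ {k l : ℕ}, k ≤ l → r k - r l ∈ (I ^ k • ⊤ : Submodule A M) := fun {k l} hkl => by
    rw [← Submodule.Quotient.eq, hr k, ← x.2 hkl, ← hr l]
    rfl
  obtain ⟨y, hy⟩ := IsPrecomplete.prec (I := I) (M := AdicCompletion I M) ‹_›
    (f := fun k => AdicCompletion.of I M (r k)) fun {k l} hkl => by
      rw [SModEq.sub_mem, ← map_sub]
      exact hof k _ (hcauchy hkl)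
  have hxy : x = y := AdicCompletion.ext fun k => by
    have h := AdicCompletion.pow_smul_top_le_ker_eval I (M := M) k ((SModEq.sub_mem).1 (hy k))
    rw [LinearMap.mem_ker, map_sub, sub_eq_zero, AdicCompletion.eval_of] at h
    rw [← hr k]
    exact h
  rw [← hxy] at hy
  have h1 := neg_mem ((SModEq.sub_mem).1 (hy n))
  rw [neg_sub] at h1
  have h2 : r n ∈ (I ^ n • ⊤ : Submodule A M) := by rwa [← Submodule.Quotient.mk_eq_zero, hr n]
  rw [← sub_add_cancel x (AdicCompletion.of I M (r n))]
  exact Submodule.add_mem _ h1 (hof n _ h2)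

theorem range_coord [IsPrecomplete I (AdicCompletion I M)] :
    LinearMap.range (coord I Z M) = decaying I Z (AdicCompletion I M) := by
  classical
  refine le_antisymm ?_ ?_
  · rintro _ ⟨x, rfl⟩ n
    obtain ⟨w, hw⟩ := Submodule.Quotient.mk_surjective _ (x.val n)
    refine w.support.finite_toSet.subset fun a ha => ?_
    rw [Finset.mem_coe, Finsupp.mem_support_iff]
    intro h0
    refine ha ((mem_pow_smul_top_iff_val I n _).2 ?_)
    rw [coord_val I x a n w hw, h0]
    rfl
  · intro y hy
    choose r hr using fun a k => Submodule.Quotient.mk_surjective _ ((y a).val k)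
    let w : ℕ → (Z →₀ M) := fun k => ∑ a ∈ (hy k).toFinset, Finsupp.single a (r a k)
    have hw : ∀ k a, Submodule.Quotient.mk (p := (I ^ k • ⊤ : Submodule A M)) (w k a) = (y a).val k := by
      intro k a
      simp only [w, Finset.sum_apply', Finsupp.single_apply]
      rw [Finset.sum_ite_eq' (hy k).toFinset a (fun a => r a k)]
      split
      · exact hr a k
      · rename_i ha
        rw [Set.Finite.mem_toFinset, Set.mem_ofPred_eq, not_not, mem_pow_smul_top_iff_val] at ha
        rw [ha]
        rfl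
    refine ⟨⟨fun k => Submodule.Quotient.mk (w k), fun {m n} hmn => ?_⟩, funext fun a =>
      AdicCompletion.ext fun k => (coord_val I _ a k (w k) rfl).trans (hw k a)⟩
    refine (Submodule.Quotient.eq _).2 ((finsupp_mem_smul_top_iff I m _).2 fun a => ?_)
    rw [Finsupp.sub_apply, ← Submodule.Quotient.eq, hw m a, ← (y a).2 hmn, ← hw n a]
    rfl

variable (Z M) in
/-- The completion of `Z →₀ M` is the module of decaying functions into the completion of `M`. -/
noncomputable def completionEquiv [IsPrecomplete I (AdicCompletion I M)] :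
    AdicCompletion I (Z →₀ M) ≃ₗ[A] decaying I Z (AdicCompletion I M) :=
  (LinearEquiv.ofInjective (coord I Z M) (coord_injective I)).trans
    (LinearEquiv.ofEq _ _ (range_coord I))

theorem completionEquiv_apply [IsPrecomplete I (AdicCompletion I M)] (x : AdicCompletion I (Z →₀ M)) (z : Z) :
    (completionEquiv I Z M x : Z → AdicCompletion I M) z = coord I Z M x z := rfl

theorem coord_of (w : Z →₀ M) (z : Z) :
    coord I Z M (AdicCompletion.of I _ w) z = AdicCompletion.of I M (w z) := AdicCompletion.ext fun k => by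
  rw [coord_val I _ z k w rfl]
  rfl

theorem isPrecomplete_of_fg (hI : I.FG) : IsPrecomplete I (AdicCompletion I M) :=
  (AdicCompletion.isAdicComplete hI).toIsPrecomplete

end Completion

section Transport

variable {N : Type w'} [AddCommGroup N] [Module A N]

theorem smul_top_map_eq (e : M ≃ₗ[A] N) (J : Ideal A) :
    (J • ⊤ : Submodule A M).map e.toLinearMap = J • ⊤ := by
  rw [Submodule.map_smul'', Submodule.map_top, LinearEquiv.range]

theorem mem_smul_top_congr (e : M ≃ₗ[A] N) (J : Ideal A) (x : M) :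
    e x ∈ (J • ⊤ : Submodule A N) ↔ x ∈ (J • ⊤ : Submodule A M) := by
  rw [← smul_top_map_eq e J]
  exact ⟨fun ⟨y, hy, hyx⟩ => e.injective hyx ▸ hy, fun h => ⟨x, h, rfl⟩⟩

theorem isAdicComplete_of_linearEquiv (e : M ≃ₗ[A] N) [IsAdicComplete I M] : IsAdicComplete I N where
  haus' x hx := by
    have h : e.symm x = 0 := IsHausdorff.haus (I := I) inferInstance _ fun n => by
      rw [SModEq.zero, ← mem_smul_top_congr e, LinearEquiv.apply_symm_apply, ← SModEq.zero]
      exact hx n
    exact (LinearEquiv.map_eq_zero_iff e.symm).1 h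
  prec' f hf := by
    obtain ⟨L, hL⟩ := IsPrecomplete.prec (I := I) (M := M) inferInstance (f := fun n => e.symm (f n))
      fun {m n} hmn => by
        rw [SModEq.sub_mem, ← map_sub, ← mem_smul_top_congr e, LinearEquiv.apply_symm_apply, ← SModEq.sub_mem]
        exact hf hmn
    refine ⟨e L, fun n => ?_⟩
    rw [SModEq.sub_mem, ← LinearEquiv.apply_symm_apply e (f n), ← map_sub, mem_smul_top_congr e, ← SModEq.sub_mem]
    exact hL n

variable (Z) in
/-- Decaying functions respect linear isomorphisms of the coefficients. -/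
noncomputable def congr (e : M ≃ₗ[A] N) : decaying I Z M ≃ₗ[A] decaying I Z N where
  toFun f := ⟨fun z => e ((f : Z → M) z), fun n => (f.2 n).subset fun z hz h => hz ((mem_smul_top_congr e _ _).2 h)⟩
  invFun f := ⟨fun z => e.symm ((f : Z → N) z), fun n => (f.2 n).subset fun z hz h =>
    hz ((mem_smul_top_congr e.symm _ _).2 h)⟩
  map_add' f g := Subtype.ext (funext fun z => map_add e _ _)
  map_smul' a f := Subtype.ext (funext fun z => map_smul e a _)
  left_inv f := Subtype.ext (funext fun z => e.symm_apply_apply _)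
  right_inv f := Subtype.ext (funext fun z => e.apply_symm_apply _)

end Transport

end Groth.Agent.DecayLib
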