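import Groth.Agent.DecayLib.Free
import Mathlib.LinearAlgebra.TensorProduct.Tower
import Mathlib.RingTheory.TensorProduct.Basic
import Mathlib.LinearAlgebra.DirectSum.Finsupp

/-!
Completed base change of completions.
-/

set_option autoImplicit false
universe u

open W4c5adicflatcompl TensorProduct

namespace Groth.Agent.DecayLib

theorem bijective_map_of_levels {B : Type u} [CommRing B] (J : Ideal B) {M N : Type u} [AddCommGroup M]
    [Module B M] [AddCommGroup N] [Module B N] (f : M →ₗ[B] N)
    (hs : ∀ (n : ℕ) (y : N), ∃ x : M, y - f x ∈ (J ^ n • ⊤ : Submodule B N))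
    (hi : ∀ (n : ℕ) (x : M), f x ∈ (J ^ n • ⊤ : Submodule B N) → x ∈ (J ^ n • ⊤ : Submodule B M)) :
    Function.Bijective (AdicCompletion.map J f) := by
  constructor
  · rw [injective_iff_map_eq_zero]
    intro x hx
    refine AdicCompletion.ext fun n => ?_
    obtain ⟨w, hw⟩ := Submodule.Quotient.mk_surjective _ (x.val n)
    have h := congrArg (fun y : AdicCompletion J N => y.val n) hx
    simp only [AdicCompletion.map_val_apply, ← hw] at h
    rw [LinearMap.reduceModIdeal_apply, AdicCompletion.val_zero_apply, Submodule.Quotient.mk_eq_zero] at h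
    rw [← hw, AdicCompletion.val_zero_apply, Submodule.Quotient.mk_eq_zero]
    exact hi n w h
  · intro y
    choose r hr using fun n => Submodule.Quotient.mk_surjective _ (y.val n)
    choose w hw using fun n => hs n (r n)
    have hcomp : ∀ {k l : ℕ} (hkl : k ≤ l),
        AdicCompletion.transitionMap J M hkl (Submodule.Quotient.mk (w l)) = Submodule.Quotient.mk (w k) := by
      intro k l hkl
      refine (Submodule.Quotient.eq _).2 (hi k _ ?_)
      rw [map_sub]
      have h1 : r l - r k ∈ (J ^ k • ⊤ : Submodule B N) := by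
        rw [← Submodule.Quotient.eq, hr k, ← y.2 hkl, ← hr l]
        rfl
      show f (w l) - f (w k) ∈ (J ^ k • ⊤ : Submodule B N)
      have h2 : f (w l) - f (w k) = (r k - f (w k)) - (r l - f (w l)) + (r l - r k) := by abel
      rw [h2]
      exact Submodule.add_mem _ (Submodule.sub_mem _ (hw k) (pow_smul_top_antitone J hkl (hw l))) h1
    refine ⟨⟨fun n => Submodule.Quotient.mk (w n), hcomp⟩, AdicCompletion.ext fun n => ?_⟩
    rw [AdicCompletion.map_val_apply, ← hr n]
    exact ((Submodule.Quotient.eq _).2 (hw n)).symm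

variable {A B : Type u} [CommRing A] [CommRing B] [Algebra A B] [IsNoetherianRing A] (I : Ideal A) (J : Ideal B)

theorem bijective_map_baseChange_of (hIJ : I.map (algebraMap A B) ≤ J) (F : Type u) [AddCommGroup F] [Module A F] :
    Function.Bijective (AdicCompletion.map J ((AdicCompletion.of I F).baseChange B)) := by
  have hle : ∀ n, ∀ a ∈ I ^ n, algebraMap A B a ∈ J ^ n := fun n a ha =>
    Ideal.pow_right_mono hIJ n (by rw [← Ideal.map_pow]; exact Ideal.mem_map_of_mem _ ha)
  refine bijective_map_of_levels J _ (fun n y => ?_) (fun n x hx => ?_)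
  · induction y using TensorProduct.induction_on with
    | zero => exact ⟨0, by simp⟩
    | tmul b v =>
      obtain ⟨w, hw⟩ := Submodule.Quotient.mk_surjective _ (v.val n)
      refine ⟨b ⊗ₜ w, ?_⟩
      rw [LinearMap.baseChange_tmul, ← tmul_sub]
      have hmem : v - AdicCompletion.of I F w ∈ (I ^ n • ⊤ : Submodule A (AdicCompletion I F)) := by
        rw [mem_pow_smul_top_iff_val, AdicCompletion.val_sub_apply, ← hw, sub_eq_zero]
        rfl
      generalize v - AdicCompletion.of I F w = d at hmem
      induction hmem using Submodule.smul_induction_on' with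
      | smul a ha z _ =>
        rw [tmul_smul, ← algebraMap_smul B a (b ⊗ₜ[A] z)]
        exact Submodule.smul_mem_smul (hle n a ha) Submodule.mem_top
      | add p _ q _ hp hq => rw [tmul_add]; exact Submodule.add_mem _ hp hq
    | add p q hp hq =>
      obtain ⟨s, hs⟩ := hp
      obtain ⟨t, ht⟩ := hq
      exact ⟨s + t, by rw [map_add, add_sub_add_comm]; exact Submodule.add_mem _ hs ht⟩
  · let Q := (B ⊗[A] F) ⧸ (J ^ n • ⊤ : Submodule B (B ⊗[A] F))
    let ξ₀ : F →ₗ[A] Q :=
      ((J ^ n • ⊤ : Submodule B (B ⊗[A] F)).mkQ.restrictScalars A) ∘ₗ TensorProduct.mk A B F 1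
    have hξ : (I ^ n • ⊤ : Submodule A F) ≤ LinearMap.ker ξ₀ := Submodule.smul_le.2 fun a ha v _ => by
      rw [LinearMap.mem_ker]
      show Submodule.Quotient.mk ((1 : B) ⊗ₜ[A] (a • v)) = 0
      rw [tmul_smul, ← algebraMap_smul B a ((1 : B) ⊗ₜ[A] v), Submodule.Quotient.mk_eq_zero]
      exact Submodule.smul_mem_smul (hle n a ha) Submodule.mem_top
    let ξ : AdicCompletion I F →ₗ[A] Q := Submodule.liftQ _ ξ₀ hξ ∘ₗ AdicCompletion.eval I F n
    let β : B ⊗[A] AdicCompletion I F →ₗ[B] Q := LinearMap.liftBaseChange B ξ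
    have hβ : ∀ z, β ((AdicCompletion.of I F).baseChange B z) = Submodule.Quotient.mk z := by
      intro z
      induction z using TensorProduct.induction_on with
      | zero => simp
      | tmul b v =>
        rw [LinearMap.baseChange_tmul, LinearMap.liftBaseChange_tmul]
        show b • (Submodule.Quotient.mk ((1 : B) ⊗ₜ[A] v) : Q) = _
        rw [← Submodule.Quotient.mk_smul, smul_tmul', smul_eq_mul, mul_one]
      | add p q hp hq => rw [map_add, map_add, hp, hq]; rfl
    have h := Submodule.mem_map_of_mem (f := β) hx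
    rw [Submodule.map_smul''] at h
    have h' := Submodule.smul_mono le_rfl le_top h
    rw [hβ] at h'
    rw [← Submodule.Quotient.mk_eq_zero]
    have hbot : (J ^ n • ⊤ : Submodule B Q) = ⊥ := le_bot_iff.1 (Submodule.smul_le.2 fun a ha q _ => by
      obtain ⟨q, rfl⟩ := Submodule.Quotient.mk_surjective _ q
      rw [Submodule.mem_bot, ← Submodule.Quotient.mk_smul, Submodule.Quotient.mk_eq_zero]
      exact Submodule.smul_mem_smul ha Submodule.mem_top)
    exact (Submodule.mem_bot B).1 (hbot ▸ h')

theorem isAdicFree_baseChange [IsNoetherianRing B] (hIJ : I.map (algebraMap A B) ≤ J) (P : Type u)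
    [AddCommGroup P] [Module A P] (hP : IsAdicFree I P) : IsAdicFree J (AdicCompletion J (B ⊗[A] P)) := by
  classical
  obtain ⟨Z, ⟨e⟩⟩ := hP
  let e' : P ≃ₗ[A] AdicCompletion I (Z →₀ A) := e.trans (freeEquiv I Z).symm
  let e₁ := (AdicCompletion.congr J (LinearEquiv.baseChange A B P (AdicCompletion I (Z →₀ A)) e')).restrictScalars B
  let e₂ := ((LinearEquiv.ofBijective _ (bijective_map_baseChange_of I J hIJ (Z →₀ A))).symm).restrictScalars B
  let e₃ := (AdicCompletion.congr J (TensorProduct.finsuppScalarRight A B B Z)).restrictScalars B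
  exact ⟨Z, ⟨((e₁.trans e₂).trans e₃).trans (freeEquiv J Z)⟩⟩

end Groth.Agent.DecayLib
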