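import Groth.Agent.DecayLib.Free
import Groth.Agent.MLMod.Completion
import Mathlib.RingTheory.Flat.EquationalCriterion
import Mathlib.Logic.Small.Set
import Mathlib.Data.Countable.Small

/-!
Flatness of the module of decaying functions.
-/

set_option autoImplicit false
universe u v

open W4c5adicflatcompl

namespace Groth.Agent.DecayLib

variable {A : Type u} [CommRing A] [IsNoetherianRing A] (I : Ideal A)

theorem flat_decaying_completion (α : Type u) : Module.Flat A (decaying I α (AdicCompletion I A)) := by
  haveI : Module.Flat A (α → AdicCompletion I A) := MLMod.flat_pi fun _ : α => AdicCompletion I A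
  haveI : Module.Flat A (AdicCompletion I (α →₀ A)) :=
    MLMod.flat_of_universallyInjective _ (MLMod.universallyInjective_toPi I α)
  exact Module.Flat.of_linearEquiv (freeEquiv I α).symm

variable [IsAdicComplete I A]

theorem flat_decaying_small (α : Type u) : Module.Flat A (decaying I α A) := by
  haveI := flat_decaying_completion I α
  exact Module.Flat.of_linearEquiv (congr I α (AdicCompletion.ofLinearEquiv I A))

theorem flat_decaying (Z : Type v) : Module.Flat A (decaying I Z A) := by
  classical
  refine Module.Flat.of_forall_isTrivialRelation fun {l f x} hrel => ?_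
  let Z₀ : Set Z := ⋃ (i : Fin l) (n : ℕ), {z | (x i : Z → A) z ∉ (I ^ n • ⊤ : Submodule A A)}
  have hZ₀ : Z₀.Countable := Set.countable_iUnion fun i => Set.countable_iUnion fun n => ((x i).2 n).countable
  haveI : Countable Z₀ := hZ₀.to_subtype
  let j : Shrink.{u} Z₀ → Z := fun a => ((equivShrink.{u} Z₀).symm a).1
  have hj : Function.Injective j := Subtype.val_injective.comp (equivShrink.{u} Z₀).symm.injective
  haveI := flat_decaying_small I (Shrink.{u} Z₀)
  let ρ : decaying I Z A →ₗ[A] decaying I (Shrink.{u} Z₀) A :=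
    { toFun := fun g => ⟨fun a => (g : Z → A) (j a), fun n => (g.2 n).preimage hj.injOn⟩
      map_add' := fun _ _ => rfl
      map_smul' := fun _ _ => rfl }
  have hext : ∀ g : decaying I (Shrink.{u} Z₀) A,
      Function.extend j (g : Shrink.{u} Z₀ → A) 0 ∈ decaying I Z A := by
    intro g n
    refine ((g.2 n).image j).subset fun z hz => ?_
    by_cases h : ∃ a, j a = z
    · obtain ⟨a, rfl⟩ := h
      refine ⟨a, ?_, rfl⟩
      rw [Set.mem_ofPred_eq, hj.extend_apply] at hz
      exact hz
    · rw [Set.mem_ofPred_eq, Function.extend_apply' _ _ _ h] at hz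
      exact absurd (Submodule.zero_mem _) hz
  let ε : decaying I (Shrink.{u} Z₀) A →ₗ[A] decaying I Z A :=
    { toFun := fun g => ⟨_, hext g⟩
      map_add' := fun g g' => Subtype.ext <| funext fun z => by
        show Function.extend j ((g : Shrink.{u} Z₀ → A) + (g' : Shrink.{u} Z₀ → A)) 0 z = _
        by_cases h : ∃ a, j a = z
        · obtain ⟨a, rfl⟩ := h
          simp [hj.extend_apply]
        · simp [Function.extend_apply' _ _ _ h]
      map_smul' := fun c g => Subtype.ext <| funext fun z => by
        show Function.extend j (c • (g : Shrink.{u} Z₀ → A)) 0 z = _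
        by_cases h : ∃ a, j a = z
        · obtain ⟨a, rfl⟩ := h
          simp [hj.extend_apply]
        · simp [Function.extend_apply' _ _ _ h] }
  have hερ : ∀ i, ε (ρ (x i)) = x i := fun i => Subtype.ext <| funext fun z => by
    show Function.extend j (fun a => (x i : Z → A) (j a)) 0 z = _
    by_cases h : ∃ a, j a = z
    · obtain ⟨a, rfl⟩ := h
      rw [hj.extend_apply]
    · rw [Function.extend_apply' _ _ _ h, Pi.zero_apply]
      by_contra hne
      obtain ⟨n, hn⟩ : ∃ n, (x i : Z → A) z ∉ (I ^ n • ⊤ : Submodule A A) := by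
        by_contra! hall
        exact hne (IsHausdorff.haus (I := I) inferInstance _ fun n => SModEq.zero.2 (hall n)).symm
      have hz : z ∈ Z₀ := Set.mem_iUnion.2 ⟨i, Set.mem_iUnion.2 ⟨n, hn⟩⟩
      exact h ⟨equivShrink.{u} Z₀ ⟨z, hz⟩, by simp [j]⟩
  have hrel' : ∑ i, f i • ρ (x i) = 0 := by simp only [← map_smul, ← map_sum, hrel, map_zero]
  obtain ⟨k, a, y, hy, ha⟩ := Module.Flat.isTrivialRelation_of_sum_smul_eq_zero hrel'
  refine ⟨k, a, fun b => ε (y b), fun i => ?_, ha⟩
  have hy' : ρ (x i) = ∑ b, a i b • y b := hy i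
  rw [← hερ i, hy', map_sum]
  simp only [map_smul]

end Groth.Agent.DecayLib
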