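import Groth.Agent.S0542
import Groth.Agent.MLMod.FlatNil
import Mathlib.RingTheory.Flat.EquationalCriterion
import Mathlib.RingTheory.AdicCompletion.Completeness
import Mathlib.RingTheory.Filtration

/-!
Flatness of completions of modules flat modulo an ideal.
-/

set_option autoImplicit false
universe u
open TensorProduct

namespace Groth.Agent.DecayLib.FlatComplete

variable {R : Type u} [CommRing R] {I : Ideal R} {M : Type u} [AddCommGroup M] [Module R M]

local notation "R'" => AdicCompletion I R
local notation "M'" => AdicCompletion I M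

/-- The action of a matrix on tuples of elements of the completion. -/
noncomputable def app {l s : ℕ} (a : Fin l → Fin s → R') : (Fin s → M') →ₗ[R'] (Fin l → M') :=
  LinearMap.pi fun i => ∑ j, a i j • LinearMap.proj j

theorem app_apply {l s : ℕ} (a : Fin l → Fin s → R') (y : Fin s → M') (i : Fin l) :
    app a y i = ∑ j, a i j • y j := by
  simp [app]

theorem val_smul' (r : R') (x : M') (n : ℕ) : (r • x).val n = AdicCompletion.evalₐ I n r • x.val n := by
  rw [AdicCompletion.smul_eval, AdicCompletion.val_smul_eq_evalₐ_smul]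

theorem val_sum_smul {s : ℕ} (r : Fin s → R') (y : Fin s → M') (n : ℕ) :
    (∑ j, r j • y j).val n = ∑ j, AdicCompletion.evalₐ I n (r j) • (y j).val n := by
  rw [← AdicCompletion.eval_apply, map_sum]
  exact Finset.sum_congr rfl fun j _ => val_smul' _ _ _

theorem evalₐ_eq_zero_mono {z : R'} {m n : ℕ} (h : m ≤ n) (hz : AdicCompletion.evalₐ I n z = 0) :
    AdicCompletion.evalₐ I m z = 0 := by
  induction z using AdicCompletion.induction_on with
  | h f =>
    change Ideal.Quotient.mk (I ^ n) (f.1 n) = 0 at hz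
    show Ideal.Quotient.mk (I ^ m) (f.1 m) = 0
    rw [← AdicCompletion.Ideal.mk_eq_mk I h f, Ideal.Quotient.eq_zero_iff_mem]
    exact Ideal.pow_le_pow_right h (Ideal.Quotient.eq_zero_iff_mem.1 hz)

theorem val_eq_zero_mono {z : M'} {m n : ℕ} (h : m ≤ n) (hz : z.val n = 0) : z.val m = 0 := by
  rw [← z.2 h, hz, map_zero]

theorem evalₐ_eq_zero_iff (hI : I.FG) (n : ℕ) (z : R') :
    AdicCompletion.evalₐ I n z = 0 ↔ z ∈ I.map (algebraMap R R') ^ n := by
  have h1 : AdicCompletion.evalₐ I n z = 0 ↔ z.val n = 0 := by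
    induction z using AdicCompletion.induction_on with
    | h f =>
      show Ideal.Quotient.mk (I ^ n) (f.1 n) = 0 ↔ Submodule.Quotient.mk (f.1 n) = 0
      rw [Ideal.Quotient.eq_zero_iff_mem, Submodule.Quotient.mk_eq_zero, Ideal.smul_eq_mul, Ideal.mul_top]
  rw [h1, ← Ideal.map_pow, ← Submodule.restrictScalars_mem R, ← Ideal.smul_top_eq_map,
    AdicCompletion.pow_smul_top_eq_ker_eval hI, LinearMap.mem_ker, AdicCompletion.eval_apply]

theorem flat_level [Module.Flat (R ⧸ I) (M ⧸ (I • ⊤ : Submodule R M))]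
    (hT : Function.Injective (TensorProduct.lift ((LinearMap.lsmul R M).comp (Submodule.subtype I)))) (n : ℕ) :
    Module.Flat (R ⧸ I ^ n) (M ⧸ (I ^ n • ⊤ : Submodule R M)) := by
  haveI : Module.Flat (R ⧸ I) ((R ⧸ I) ⊗[R] M) := Module.Flat.of_linearEquiv
    (LinearEquiv.extendScalarsOfSurjective (S := R ⧸ I) Ideal.Quotient.mk_surjective
      (TensorProduct.quotTensorEquivQuotSMul M I))
  have htor : Function.Injective ((Submodule.subtype I).rTensor M) := by
    refine Function.Injective.of_comp (f := TensorProduct.lid R M) ?_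
    have : TensorProduct.lift ((LinearMap.lsmul R M).comp (Submodule.subtype I)) =
        (TensorProduct.lid R M).toLinearMap ∘ₗ (Submodule.subtype I).rTensor M := by
      ext a m; simp
    rw [this] at hT
    exact hT
  rcases Nat.eq_zero_or_pos n with rfl | hn
  · haveI : Subsingleton (M ⧸ (I ^ 0 • ⊤ : Submodule R M)) :=
      Submodule.Quotient.subsingleton_iff.2 (by simp)
    infer_instance
  haveI := MLMod.flat_quotient_pow M I htor n (by omega)
  exact Module.Flat.of_linearEquiv (LinearEquiv.extendScalarsOfSurjective (S := R ⧸ I ^ n)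
    Ideal.Quotient.mk_surjective (TensorProduct.quotTensorEquivQuotSMul M (I ^ n))).symm

variable [IsNoetherianRing (R ⧸ I)]

theorem exists_approx (hI : I.FG) [Module.Flat (R ⧸ I) (M ⧸ (I • ⊤ : Submodule R M))]
    (hT : Function.Injective (TensorProduct.lift ((LinearMap.lsmul R M).comp (Submodule.subtype I))))
    {l s : ℕ} (a : Fin l → Fin s → R') :
    ∃ c : ℕ, ∀ (n : ℕ) (y : Fin s → M'), (∀ i, (app a y i).val (n + c) = 0) →
      ∃ (k : ℕ) (b : Fin k → Fin s → R') (z : Fin k → M'), (∀ q i, ∑ j, a i j * b q j = 0) ∧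
        ∀ j, (y j - ∑ q, b q j • z q).val n = 0 := by
  classical
  haveI := S0542.result R I hI
  let u : (Fin s → R') →ₗ[R'] (Fin l → R') := LinearMap.pi fun i => ∑ j, a i j • LinearMap.proj j
  have hu : ∀ v i, u v i = ∑ j, a i j * v j := fun v i => by simp [u]
  let J : Ideal R' := I.map (algebraMap R R')
  obtain ⟨c, hc⟩ := Ideal.exists_pow_inf_eq_pow_smul J (LinearMap.range u)
  refine ⟨c, fun n y hy => ?_⟩
  let N := n + c
  haveI := flat_level hT N
  let S := R ⧸ I ^ N
  let ev := AdicCompletion.evalₐ I N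
  let f : (Fin l → S) →ₗ[S] (Fin s → S) := LinearMap.pi fun j => ∑ i, ev (a i j) • LinearMap.proj i
  have hf : ∀ v j, f v j = ∑ i, ev (a i j) * v i := fun v j => by simp [f]
  let x : (Fin s → S) →ₗ[S] (M ⧸ (I ^ N • ⊤ : Submodule R M)) :=
    Fintype.linearCombination S fun j => (y j).val N
  have hxf : x ∘ₗ f = 0 := by
    refine LinearMap.pi_ext' fun i => LinearMap.ext_ring ?_
    simp only [LinearMap.comp_apply, LinearMap.coe_single, LinearMap.zero_apply, x, Fintype.linearCombination_apply]
    have h := hy i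
    rw [app_apply, val_sum_smul] at h
    rw [← h]
    refine Finset.sum_congr rfl fun j _ => ?_
    simp [hf, Pi.single_apply, ev, N]
  obtain ⟨k, a', y', hxy, haf⟩ := Module.Flat.exists_factorization_of_comp_eq_zero_of_free hxf
  choose b₀ hb₀ using fun q j => AdicCompletion.surjective_evalₐ I N (a' (Pi.single j 1) q)
  choose z hz using fun q => AdicCompletion.eval_surjective I M N (y' (Finsupp.single q 1))
  have hub : ∀ q i, ev (u (b₀ q) i) = 0 := by
    intro q i
    have h := DFunLike.congr_fun (LinearMap.congr_fun haf (Pi.single i 1)) q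
    rw [LinearMap.zero_apply, Finsupp.zero_apply, LinearMap.comp_apply] at h
    have he : f (Pi.single i 1) = ∑ j, ev (a i j) • (Pi.single j 1 : Fin s → S) := by
      funext j
      simp [hf, Pi.single_apply, Finset.sum_apply]
    rw [he, map_sum, Finsupp.finsetSum_apply] at h
    rw [← h, hu, map_sum]
    refine Finset.sum_congr rfl fun j _ => ?_
    rw [map_smul, Finsupp.smul_apply, smul_eq_mul, map_mul, hb₀]
  have hd : ∀ q, ∃ d : Fin s → R', (∀ j, AdicCompletion.evalₐ I n (d j) = 0) ∧ u d = u (b₀ q) := by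
    intro q
    have h1 : u (b₀ q) ∈ J ^ N • (⊤ : Submodule R' (Fin l → R')) ⊓ LinearMap.range u := by
      refine ⟨?_, _, rfl⟩
      rw [pi_eq_sum_univ' (u (b₀ q))]
      exact Submodule.sum_mem _ fun i _ =>
        Submodule.smul_mem_smul ((evalₐ_eq_zero_iff hI N _).1 (hub q i)) Submodule.mem_top
    rw [hc N (Nat.le_add_left c n), show N - c = n from Nat.add_sub_cancel n c] at h1
    have h2 : u (b₀ q) ∈ Submodule.map u (J ^ n • ⊤) := by
      rw [Submodule.map_smul'', Submodule.map_top]
      exact Submodule.smul_mono le_rfl inf_le_right h1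
    obtain ⟨d, hd, hdu⟩ := h2
    refine ⟨d, fun j => (evalₐ_eq_zero_iff hI n _).2 ?_, hdu⟩
    have h3 := Submodule.mem_map_of_mem (f := (LinearMap.proj j : (Fin s → R') →ₗ[R'] R')) hd
    rw [Submodule.map_smul''] at h3
    have h4 := Submodule.smul_mono le_rfl (le_top : _ ≤ (⊤ : Submodule R' R')) h3
    rwa [Ideal.smul_eq_mul, Ideal.mul_top] at h4
  choose d hd1 hd2 using hd
  refine ⟨k, fun q j => b₀ q j - d q j, z, fun q i => ?_, fun j => ?_⟩
  · have h := congrFun (hd2 q) i
    rw [hu, hu] at h
    simp only [mul_sub, Finset.sum_sub_distrib, ← h, sub_self]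
  · have hN : (y j - ∑ q, b₀ q j • z q).val N = 0 := by
      rw [AdicCompletion.val_sub_apply, sub_eq_zero, val_sum_smul]
      have h := LinearMap.congr_fun hxy (Pi.single j 1)
      rw [LinearMap.comp_apply] at h
      have hx1 : x (Pi.single j 1) = (y j).val N := by
        simp [x, Fintype.linearCombination_apply, Pi.single_apply]
      rw [← hx1, h]
      conv_lhs => rw [← Finsupp.univ_sum_single (a' (Pi.single j 1)), map_sum]
      refine Finset.sum_congr rfl fun q _ => ?_
      rw [← Finsupp.smul_single_one, map_smul, ← hz q, hb₀]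
      rfl
    have hn : (y j - ∑ q, b₀ q j • z q).val n = 0 := val_eq_zero_mono (Nat.le_add_right n c) hN
    have hdz : (∑ q, d q j • z q).val n = 0 := by
      rw [val_sum_smul]
      exact Finset.sum_eq_zero fun q _ => by rw [hd1, zero_smul]
    simp only [sub_smul, Finset.sum_sub_distrib]
    rw [sub_sub_eq_add_sub, add_sub_right_comm, AdicCompletion.val_add_apply, hn, hdz, add_zero]

theorem flat_completion (hI : I.FG) [Module.Flat (R ⧸ I) (M ⧸ (I • ⊤ : Submodule R M))]
    (hT : Function.Injective (TensorProduct.lift ((LinearMap.lsmul R M).comp (Submodule.subtype I)))) :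
    Module.Flat R' M' := by
  classical
  haveI := S0542.result R I hI
  refine Module.Flat.of_forall_isTrivialRelation fun {l f x} hrel => ?_
  let a : Fin 1 → Fin l → R' := fun _ j => f j
  let K : Submodule R' (Fin l → R') := LinearMap.ker (Fintype.linearCombination R' f)
  obtain ⟨k, g, hg⟩ := Submodule.fg_iff_exists_fin_generating_family.1 (IsNoetherian.noetherian K)
  let a₂ : Fin l → Fin k → R' := fun j q => g q j
  have hgK : ∀ q, ∑ j, f j * g q j = 0 := fun q => by
    have h : g q ∈ K := by rw [← hg]; exact Submodule.subset_span ⟨q, rfl⟩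
    rw [LinearMap.mem_ker, Fintype.linearCombination_apply] at h
    rw [← h]
    exact Finset.sum_congr rfl fun j _ => mul_comm _ _
  obtain ⟨c, hc⟩ := exists_approx hI hT a
  obtain ⟨c₂, hc₂⟩ := exists_approx hI hT a₂
  have happrox : ∀ n, ∃ G : Fin k → M', ∀ j, (x j - app a₂ G j).val n = 0 := by
    intro n
    have h0 : ∀ i, (app a x i).val (n + c) = 0 := fun i => by
      rw [app_apply, show ∑ j, a i j • x j = 0 from hrel, AdicCompletion.val_zero_apply]
    obtain ⟨k', b, z, hb, hbz⟩ := hc n x h0
    have hbK : ∀ q, b q ∈ Submodule.span R' (Set.range g) := fun q => by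
      rw [hg, LinearMap.mem_ker, Fintype.linearCombination_apply, ← hb q 0]
      exact Finset.sum_congr rfl fun j _ => mul_comm _ _
    choose e he using fun q => (Submodule.mem_span_range_iff_exists_fun R').1 (hbK q)
    refine ⟨fun p => ∑ q, e q p • z q, fun j => ?_⟩
    have hs : app a₂ (fun p => ∑ q, e q p • z q) j = ∑ q, b q j • z q := by
      rw [app_apply]
      simp only [Finset.smul_sum, smul_smul]
      rw [Finset.sum_comm]
      refine Finset.sum_congr rfl fun q _ => ?_
      rw [← he q, Finset.sum_apply, Finset.sum_smul]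
      refine Finset.sum_congr rfl fun p _ => ?_
      rw [Pi.smul_apply, smul_eq_mul, mul_comm]
    rw [hs]
    exact hbz j
  choose G₀ hG₀ using happrox
  let A : ℕ → Type u := fun n => {G : Fin k → M' // ∀ j, (x j - app a₂ G j).val (n + c₂) = 0}
  have hstep : ∀ n (G : A n), ∃ G' : A (n + 1), ∀ q, (G'.1 q - G.1 q).val n = 0 := by
    rintro n ⟨G, hG⟩
    have h1 : ∀ j, (app a₂ (G₀ (n + 1 + c₂) - G) j).val (n + c₂) = 0 := fun j => by
      rw [map_sub, Pi.sub_apply,
        ← sub_sub_sub_cancel_left (app a₂ G j) (app a₂ (G₀ (n + 1 + c₂)) j) (x j),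
        AdicCompletion.val_sub_apply, hG j,
        val_eq_zero_mono (by omega : n + c₂ ≤ n + 1 + c₂) (hG₀ (n + 1 + c₂) j), sub_zero]
    obtain ⟨k', b, z, hb, hbz⟩ := hc₂ n _ h1
    let e : Fin k → M' := fun p => ∑ q, b q p • z q
    have he : app a₂ e = 0 := by
      funext j
      rw [app_apply, Pi.zero_apply]
      simp only [e, Finset.smul_sum, smul_smul]
      rw [Finset.sum_comm]
      refine Finset.sum_eq_zero fun q _ => ?_
      rw [← Finset.sum_smul, hb q j, zero_smul]
    refine ⟨⟨G₀ (n + 1 + c₂) - e, fun j => ?_⟩, fun p => ?_⟩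
    · rw [map_sub, he, sub_zero]
      exact hG₀ (n + 1 + c₂) j
    · show ((G₀ (n + 1 + c₂) - e) p - G p).val n = 0
      rw [Pi.sub_apply, sub_right_comm]
      exact hbz p
  choose next hnext using hstep
  let G : ∀ n, A n := fun n => Nat.rec ⟨G₀ (0 + c₂), hG₀ (0 + c₂)⟩ (fun n G => next n G) n
  have hcompat : ∀ q {m n : ℕ}, m ≤ n → ((G n).1 q).val m = ((G m).1 q).val m := by
    intro q m n hmn
    induction n, hmn using Nat.le_induction with
    | base => rfl
    | succ n hn ih =>
      rw [← ih, ← sub_eq_zero, ← AdicCompletion.val_sub_apply]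
      exact val_eq_zero_mono hn (hnext n (G n) q)
  let Y : Fin k → M' := fun q => ⟨fun n => ((G n).1 q).val n, fun {m n} hmn => by
    show AdicCompletion.transitionMap I M hmn (((G n).1 q).val n) = _
    rw [((G n).1 q).2 hmn, hcompat q hmn]⟩
  have hY : ∀ n q, (Y q).val n = ((G n).1 q).val n := fun _ _ => rfl
  refine ⟨k, fun j q => g q j, Y, fun j => ?_, fun q => hgK q⟩
  refine AdicCompletion.ext fun n => ?_
  have h := val_eq_zero_mono (Nat.le_add_right n c₂) ((G n).2 j)
  rw [AdicCompletion.val_sub_apply, sub_eq_zero, app_apply, val_sum_smul] at h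
  rw [val_sum_smul]
  simp only [hY]
  exact h

end Groth.Agent.DecayLib.FlatComplete
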