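import Groth.Agent.DecayLib.Basic
import Mathlib.RingTheory.Noetherian.Basic

/-!
Universal property of decaying functions into the completed ring.
-/

set_option autoImplicit false
universe u v w

open W4c5adicflatcompl

namespace Groth.Agent.DecayLib

variable {A : Type u} [CommRing A] [IsNoetherianRing A] (I : Ideal A)

instance (N : Type w) [AddCommGroup N] [Module A N] : IsAdicComplete I (AdicCompletion I N) :=
  AdicCompletion.isAdicComplete (IsNoetherian.noetherian I)

variable (Z : Type v)

/-- The completion of the free module as decaying functions. -/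
noncomputable def freeEquiv : AdicCompletion I (Z →₀ A) ≃ₗ[A] decaying I Z (AdicCompletion I A) :=
  completionEquiv I Z A

theorem isAdicComplete_free : IsAdicComplete I (decaying I Z (AdicCompletion I A)) :=
  isAdicComplete_of_linearEquiv I (freeEquiv I Z)

variable {Z}

theorem freeEquiv_of_single [DecidableEq Z] (z : Z) :
    freeEquiv I Z (AdicCompletion.of I _ (Finsupp.single z 1)) = single I z (1 : AdicCompletion I A) := by
  refine Subtype.ext (funext fun a => ?_)
  show coord I Z A _ a = (Pi.single z (1 : AdicCompletion I A) : Z → AdicCompletion I A) a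
  rw [coord_of]
  by_cases h : a = z
  · subst h
    rw [Finsupp.single_eq_same, Pi.single_eq_same]
    rfl
  · rw [Finsupp.single_eq_of_ne h, Pi.single_eq_of_ne h, map_zero]

theorem linearMap_ext [DecidableEq Z] {M : Type w} [AddCommGroup M] [Module A M] [IsHausdorff I M]
    (φ ψ : decaying I Z (AdicCompletion I A) →ₗ[A] M)
    (h : ∀ z, φ (single I z (1 : AdicCompletion I A)) = ψ (single I z (1 : AdicCompletion I A))) : φ = ψ := by
  have hof : ∀ w : Z →₀ A, φ (freeEquiv I Z (AdicCompletion.of I _ w)) = ψ (freeEquiv I Z (AdicCompletion.of I _ w)) := by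
    intro w
    induction w using Finsupp.induction_linear with
    | zero => simp
    | add a b ha hb => simp only [map_add, ha, hb]
    | single z c => rw [← Finsupp.smul_single_one, map_smul, map_smul, map_smul, map_smul, freeEquiv_of_single, h z]
  refine LinearMap.ext fun f => sub_eq_zero.1 (IsHausdorff.haus (I := I) inferInstance _ fun n => ?_)
  rw [SModEq.zero]
  obtain ⟨x, rfl⟩ := (freeEquiv I Z).surjective f
  obtain ⟨w, hw⟩ := Submodule.Quotient.mk_surjective _ (x.val n)
  have hmem : x - AdicCompletion.of I _ w ∈ (I ^ n • ⊤ : Submodule A (AdicCompletion I (Z →₀ A))) := by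
    rw [mem_pow_smul_top_iff_val, AdicCompletion.val_sub_apply, ← hw, sub_eq_zero]
    rfl
  have h1 := Submodule.mem_map_of_mem (f := (φ - ψ).comp (freeEquiv I Z).toLinearMap) hmem
  rw [Submodule.map_smul''] at h1
  have h2 := Submodule.smul_mono le_rfl le_top h1
  rwa [LinearMap.comp_apply, LinearEquiv.coe_coe, map_sub, map_sub,
    LinearMap.sub_apply φ ψ (freeEquiv I Z (AdicCompletion.of I _ w)), hof w, sub_self, sub_zero,
    LinearMap.sub_apply] at h2

theorem exists_lift [DecidableEq Z] {M : Type w} [AddCommGroup M] [Module A M] [IsAdicComplete I M] (f : Z → M) :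
    ∃ φ : decaying I Z (AdicCompletion I A) →ₗ[A] M, ∀ z, φ (single I z (1 : AdicCompletion I A)) = f z := by
  refine ⟨(AdicCompletion.ofLinearEquiv I M).symm.toLinearMap ∘ₗ
    (AdicCompletion.map I (Finsupp.linearCombination A f)).restrictScalars A ∘ₗ (freeEquiv I Z).symm.toLinearMap,
    fun z => ?_⟩
  rw [LinearMap.comp_apply, LinearMap.comp_apply, LinearEquiv.coe_coe, LinearEquiv.coe_coe,
    ← freeEquiv_of_single, LinearEquiv.symm_apply_apply, LinearMap.restrictScalars_apply,
    AdicCompletion.map_of, Finsupp.linearCombination_single, one_smul, AdicCompletion.ofLinearEquiv_symm_of]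

theorem isAdicProjective_iff {A : Type u} [CommRing A] [IsNoetherianRing A] (I : Ideal A) (P : Type u)
    [AddCommGroup P] [Module A P] :
    IsAdicProjective I P ↔
      ∃ (Z : Type u) (i : P →ₗ[A] decaying I Z (AdicCompletion I A))
        (r : decaying I Z (AdicCompletion I A) →ₗ[A] P), r ∘ₗ i = LinearMap.id := by
  classical
  constructor
  · rintro ⟨hc, hlift⟩
    haveI := hc
    obtain ⟨r, hr⟩ := exists_lift I (Z := P) (id : P → P)
    obtain ⟨i, hi⟩ := hlift _ P (isAdicComplete_free I P) hc r (fun p => ⟨_, hr p⟩) LinearMap.id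
    exact ⟨P, i, r, hi⟩
  · rintro ⟨Z, i, r, hri⟩
    haveI := isAdicComplete_free I Z
    have hri' : ∀ p, r (i p) = p := LinearMap.congr_fun hri
    have hPhaus : IsHausdorff I P := ⟨fun p hp => by
      rw [← hri' p, IsHausdorff.haus (I := I) inferInstance (i p) fun n => ?_, map_zero]
      have h := Submodule.mem_map_of_mem (f := i) (SModEq.zero.1 (hp n))
      rw [Submodule.map_smul''] at h
      rw [SModEq.zero]
      exact Submodule.smul_mono le_rfl le_top h⟩
    have hPpre : IsPrecomplete I P := ⟨fun f hf => by
      obtain ⟨L, hL⟩ := IsPrecomplete.prec (I := I) (M := decaying I Z (AdicCompletion I A)) inferInstance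
        (f := fun n => i (f n)) fun {m n} hmn => by
          rw [SModEq.sub_mem, ← map_sub]
          have h := Submodule.mem_map_of_mem (f := i) ((SModEq.sub_mem).1 (hf hmn))
          rw [Submodule.map_smul''] at h
          exact Submodule.smul_mono le_rfl le_top h
      refine ⟨r L, fun n => ?_⟩
      have h := Submodule.mem_map_of_mem (f := r) ((SModEq.sub_mem).1 (hL n))
      rw [Submodule.map_smul'', map_sub, hri'] at h
      rw [SModEq.sub_mem]
      exact Submodule.smul_mono le_rfl le_top h⟩
    refine ⟨{ toIsHausdorff := hPhaus, toIsPrecomplete := hPpre }, fun M N _ _ _ _ hM hN φ hφ ψ => ?_⟩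
    haveI := hM
    haveI := hN
    choose m hm using fun z : Z => hφ (ψ (r (single I z (1 : AdicCompletion I A))))
    obtain ⟨χ, hχ⟩ := exists_lift I m
    refine ⟨χ ∘ₗ i, ?_⟩
    have h : φ ∘ₗ χ = ψ ∘ₗ r := linearMap_ext I _ _ fun z => by
      rw [LinearMap.comp_apply, LinearMap.comp_apply, hχ, hm]
    rw [← LinearMap.comp_assoc, h, LinearMap.comp_assoc, hri, LinearMap.comp_id]

end Groth.Agent.DecayLib
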