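import Groth.Agent.DecayLib.Free
import Groth.Agent.LocalCrit.Artinian
import Mathlib.LinearAlgebra.FreeModule.Basic
import Mathlib.LinearAlgebra.Dimension.StrongRankCondition

/-!
Limits of adic systems of flat modules.
-/

set_option autoImplicit false
universe u

open W4c5adicflatcompl

namespace Groth.Agent.DecayLib

variable {A : Type u} [CommRing A] [IsNoetherianRing A] (I : Ideal A)
  (M : ℕ → Type u) [∀ n, AddCommGroup (M n)] [∀ n, Module A (M n)]
  [∀ n, Module (A ⧸ I ^ (n + 1)) (M n)] [∀ n, IsScalarTower A (A ⧸ I ^ (n + 1)) (M n)]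
  (ψ : ∀ n, M (n + 1) →ₗ[A] M n)

omit [IsNoetherianRing A] in
theorem pow_smul_top_eq_bot (n : ℕ) : (I ^ (n + 1) • ⊤ : Submodule A (M n)) = ⊥ :=
  le_bot_iff.1 (Submodule.smul_le.2 fun a ha x _ => by
    rw [Submodule.mem_bot, ← algebraMap_smul (A ⧸ I ^ (n + 1)) a x, Ideal.Quotient.algebraMap_eq,
      Ideal.Quotient.eq_zero_iff_mem.2 ha, zero_smul])

variable {Z : Type u} (m : Z → sysLim M ψ)

/-- The `n`-th coefficient map. -/
noncomputable def coeffMap (n : ℕ) : (Z →₀ A) →ₗ[A] M n :=
  Finsupp.linearCombination A fun z => sysProj M ψ n (m z)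

omit [IsNoetherianRing A] [∀ n, Module (A ⧸ I ^ (n + 1)) (M n)] [∀ n, IsScalarTower A (A ⧸ I ^ (n + 1)) (M n)] in
theorem coeffMap_compat (n : ℕ) (w : Z →₀ A) : ψ n (coeffMap M ψ m (n + 1) w) = coeffMap M ψ m n w := by
  induction w using Finsupp.induction_linear with
  | zero => simp
  | add a b ha hb => simp only [map_add, ha, hb]
  | single z c =>
    simp only [coeffMap, Finsupp.linearCombination_single, map_smul, sysProj_apply]
    rw [(m z).2 n]

theorem coeffMap_surjective (hker : ∀ n, LinearMap.ker (ψ n) = (I ^ (n + 1) • ⊤ : Submodule A (M (n + 1))))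
    (h0 : Function.Surjective (coeffMap M ψ m 0)) (n : ℕ) : Function.Surjective (coeffMap M ψ m n) := by
  induction n with
  | zero => exact h0
  | succ n ih =>
    rw [← LinearMap.range_eq_top]
    have h1 : (⊤ : Submodule A (M (n + 1))) ≤ LinearMap.range (coeffMap M ψ m (n + 1)) ⊔ I ^ (n + 1) • ⊤ := by
      intro y _
      obtain ⟨c, hc⟩ := ih (ψ n y)
      rw [← add_sub_cancel (coeffMap M ψ m (n + 1) c) y]
      refine Submodule.add_mem_sup ⟨c, rfl⟩ ?_
      rw [← hker, LinearMap.mem_ker, map_sub, coeffMap_compat, hc, sub_self]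
    refine top_le_iff.1 (h1.trans (sup_le le_rfl ?_))
    refine (Submodule.smul_mono le_rfl h1).trans ?_
    rw [Submodule.smul_sup, ← Submodule.mul_smul, ← pow_add]
    refine sup_le Submodule.smul_le_right (le_trans ?_ bot_le)
    rw [← pow_smul_top_eq_bot I M (n + 1)]
    exact Submodule.smul_mono_left (Ideal.pow_le_pow_right (by omega))

theorem coeffMap_ker [∀ n, Module.Flat (A ⧸ I ^ (n + 1)) (M n)]
    (hsurj : ∀ n, Function.Surjective (coeffMap M ψ m n))
    (h0 : ∀ w, coeffMap M ψ m 0 w = 0 → ∀ z, w z ∈ I) (n : ℕ) (w : Z →₀ A) :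
    coeffMap M ψ m n w = 0 ↔ w ∈ (I ^ (n + 1) • ⊤ : Submodule A (Z →₀ A)) := by
  classical
  constructor
  swap
  · intro hw
    have h := Submodule.mem_map_of_mem (f := coeffMap M ψ m n) hw
    rw [Submodule.map_smul''] at h
    have h' := Submodule.smul_mono le_rfl le_top h
    rwa [pow_smul_top_eq_bot, Submodule.mem_bot] at h'
  intro hw
  let Q := A ⧸ I ^ (n + 1)
  let g : (Z →₀ Q) →ₗ[Q] M n := Finsupp.linearCombination Q fun z => sysProj M ψ n (m z)
  have hg : ∀ v : Z →₀ A, g (v.mapRange (Ideal.Quotient.mk _) (map_zero _)) = coeffMap M ψ m n v := by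
    intro v
    induction v using Finsupp.induction_linear with
    | zero => simp
    | add a b ha hb =>
      rw [map_add (coeffMap M ψ m n), ← ha, ← hb, ← map_add]
      congr 1
      ext z
      simp
    | single z c =>
      simp only [g, coeffMap, Finsupp.mapRange_single, Finsupp.linearCombination_single]
      rw [← Ideal.Quotient.algebraMap_eq, algebraMap_smul]
  have hgs : Function.Surjective g := fun y => by
    obtain ⟨v, hv⟩ := hsurj n y
    exact ⟨_, (hg v).trans hv⟩
  have hlift : ∀ v : Z →₀ Q, ∃ v' : Z →₀ A, v'.mapRange (Ideal.Quotient.mk _) (map_zero _) = v := by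
    intro v
    induction v using Finsupp.induction_linear with
    | zero => exact ⟨0, by simp⟩
    | add a b ha hb =>
      obtain ⟨a', rfl⟩ := ha
      obtain ⟨b', rfl⟩ := hb
      exact ⟨a' + b', by ext z; simp⟩
    | single z c =>
      obtain ⟨c, rfl⟩ := Ideal.Quotient.mk_surjective c
      exact ⟨Finsupp.single z c, Finsupp.mapRange_single⟩
  have hdown : ∀ k (v : Z →₀ A), coeffMap M ψ m k v = 0 → coeffMap M ψ m 0 v = 0 := by
    intro k
    induction k with
    | zero => intro v hv; exact hv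
    | succ k ih => intro v hv; exact ih v (by rw [← coeffMap_compat, hv, map_zero])
  have hker : LinearMap.ker g ≤ I.map (Ideal.Quotient.mk (I ^ (n + 1))) • (⊤ : Submodule Q (Z →₀ Q)) := by
    intro v hv
    obtain ⟨v', rfl⟩ := hlift v
    rw [LinearMap.mem_ker, hg] at hv
    rw [← Finsupp.sum_single (v'.mapRange (Ideal.Quotient.mk _) (map_zero _))]
    refine Submodule.sum_mem _ fun z _ => ?_
    rw [← Finsupp.smul_single_one]
    refine Submodule.smul_mem_smul ?_ Submodule.mem_top
    rw [Finsupp.mapRange_apply]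
    exact Ideal.mem_map_of_mem _ (h0 v' (hdown n v' hv) z)
  have hbot := LocalCrit.eq_bot_of_flat_quotient (I.map (Ideal.Quotient.mk (I ^ (n + 1)))) (n + 1)
    (by rw [← Ideal.map_pow, Ideal.map_quotient_self]; rfl) (LinearMap.ker g) g hgs
    (LinearMap.exact_subtype_ker_map g) hker
  have hzero : w.mapRange (Ideal.Quotient.mk (I ^ (n + 1))) (map_zero _) = 0 := by
    rw [← Submodule.mem_bot Q, ← hbot, LinearMap.mem_ker, hg, hw]
  rw [finsupp_mem_smul_top_iff]
  intro z
  rw [Ideal.smul_eq_mul, Ideal.mul_top, ← Ideal.Quotient.eq_zero_iff_mem]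
  simpa using DFunLike.congr_fun hzero z

theorem exists_equiv_sysLim (hsurj : ∀ n, Function.Surjective (coeffMap M ψ m n))
    (hk : ∀ n w, coeffMap M ψ m n w = 0 ↔ w ∈ (I ^ (n + 1) • ⊤ : Submodule A (Z →₀ A))) :
    ∃ e : AdicCompletion I (Z →₀ A) ≃ₗ[A] sysLim M ψ, ∀ x n, (sysProj M ψ n (e x) = 0 ↔ x.val (n + 1) = 0) ∧
      ∀ v : Z →₀ A, sysProj M ψ n (e (AdicCompletion.of I _ v)) = coeffMap M ψ m n v := by
  let L : ∀ n, AdicCompletion I (Z →₀ A) →ₗ[A] M n := fun n =>
    Submodule.liftQ _ (coeffMap M ψ m n) (fun w hw => (hk n w).2 hw) ∘ₗ AdicCompletion.eval I _ (n + 1)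
  have hLmk : ∀ n (x : AdicCompletion I (Z →₀ A)) w, Submodule.Quotient.mk w = x.val (n + 1) →
      L n x = coeffMap M ψ m n w := fun n x w hw => by
    show Submodule.liftQ _ (coeffMap M ψ m n) (fun w hw => (hk n w).2 hw) (x.val (n + 1)) = _
    rw [← hw]
    rfl
  have hL0 : ∀ n (x : AdicCompletion I (Z →₀ A)), L n x = 0 ↔ x.val (n + 1) = 0 := fun n x => by
    obtain ⟨w, hw⟩ := Submodule.Quotient.mk_surjective _ (x.val (n + 1))
    rw [hLmk n x w hw, hk, ← hw, Submodule.Quotient.mk_eq_zero]
  let Λ : AdicCompletion I (Z →₀ A) →ₗ[A] sysLim M ψ := (LinearMap.pi L).codRestrict _ fun x n => by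
    obtain ⟨w, hw⟩ := Submodule.Quotient.mk_surjective _ (x.val (n + 1 + 1))
    show ψ n (L (n + 1) x) = L n x
    have hw' : Submodule.Quotient.mk w = x.val (n + 1) := by
      rw [← x.2 (Nat.le_succ (n + 1)), ← hw]
      rfl
    rw [hLmk _ x w hw, hLmk _ x w hw', coeffMap_compat]
  have hbij : Function.Bijective Λ := by
    constructor
    · rw [injective_iff_map_eq_zero]
      intro x hx
      refine AdicCompletion.ext fun k => ?_
      have h1 : x.val (k + 1) = 0 := (hL0 k x).1 (congrFun (congrArg Subtype.val hx) k)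
      rw [AdicCompletion.val_zero_apply, ← x.2 (Nat.le_succ k), h1, map_zero]
    · intro y
      choose w hw using fun n => hsurj n ((y : ∀ n, M n) n)
      have hc : ∀ {k l : ℕ}, k ≤ l → w k - w l ∈ (I ^ (k + 1) • ⊤ : Submodule A (Z →₀ A)) := by
        intro k l hkl
        induction l, hkl using Nat.le_induction with
        | base => simp
        | succ l hl ih =>
          rw [← sub_add_sub_cancel (w k) (w l) (w (l + 1))]
          refine Submodule.add_mem _ ih (pow_smul_top_antitone I (by omega : k + 1 ≤ l + 1) ((hk l _).1 ?_))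
          rw [map_sub, hw, ← coeffMap_compat, hw, y.2 l, sub_self]
      have hcomp : ∀ {k l : ℕ} (hkl : k ≤ l),
          AdicCompletion.transitionMap I (Z →₀ A) hkl (Submodule.Quotient.mk (w (l - 1))) =
            Submodule.Quotient.mk (w (k - 1)) := by
        intro k l hkl
        refine (Submodule.Quotient.eq _).2 ?_
        rcases Nat.eq_zero_or_pos k with rfl | hk0
        · simp
        · have h := hc (show k - 1 ≤ l - 1 by omega)
          rw [Nat.sub_add_cancel hk0] at h
          rw [← neg_sub]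
          exact neg_mem h
      let x₀ : AdicCompletion I (Z →₀ A) := ⟨fun k => Submodule.Quotient.mk (w (k - 1)), hcomp⟩
      refine ⟨x₀, Subtype.ext (funext fun n => ?_)⟩
      show L n x₀ = (y : ∀ n, M n) n
      exact (hLmk n x₀ (w n) rfl).trans (hw n)
  exact ⟨LinearEquiv.ofBijective Λ hbij, fun x n => ⟨hL0 n x, fun v => by
    show L n (AdicCompletion.of I _ v) = _
    exact hLmk n _ v rfl⟩⟩

theorem isAdicFree_sysLim [I.IsMaximal] [∀ n, Module.Flat (A ⧸ I ^ (n + 1)) (M n)]
    (hψ : ∀ n, Function.Surjective (ψ n))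
    (hker : ∀ n, LinearMap.ker (ψ n) = (I ^ (n + 1) • ⊤ : Submodule A (M (n + 1)))) :
    IsAdicFree I (sysLim M ψ) ∧ ∀ n, Function.Surjective (sysProj M ψ n) ∧
        LinearMap.ker (sysProj M ψ n) = (I ^ (n + 1) • ⊤ : Submodule A (sysLim M ψ)) := by
  classical
  have hT : Module.IsTorsionBySet A (M 0) (I : Set A) := fun x a => by
    have h : (a : A) • x ∈ (I ^ (0 + 1) • ⊤ : Submodule A (M 0)) :=
      Submodule.smul_mem_smul (by simp) Submodule.mem_top
    rwa [pow_smul_top_eq_bot, Submodule.mem_bot] at h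
  letI : Field (A ⧸ I) := Ideal.Quotient.field I
  letI : Module (A ⧸ I) (M 0) := hT.module
  haveI : IsScalarTower A (A ⧸ I) (M 0) := hT.isScalarTower
  let Z := Module.Free.ChooseBasisIndex (A ⧸ I) (M 0)
  let b := Module.Free.chooseBasis (A ⧸ I) (M 0)
  choose up hup using fun n => hψ n
  have hlift : ∀ y : M 0, ∃ x : sysLim M ψ, sysProj M ψ 0 x = y := fun y =>
    ⟨⟨fun n => Nat.rec (motive := M) y (fun k xk => up k xk) n, fun n => hup n _⟩, rfl⟩
  choose m hm using fun z => hlift (b z)
  have hco : ∀ w, coeffMap M ψ m 0 w =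
      Finsupp.linearCombination (A ⧸ I) b (w.mapRange (Ideal.Quotient.mk I) (map_zero _)) := by
    intro w
    induction w using Finsupp.induction_linear with
    | zero => simp
    | add a c ha hc =>
      rw [map_add, ha, hc, ← map_add]
      congr 1
      ext z
      simp
    | single z c =>
      simp only [coeffMap, Finsupp.linearCombination_single, Finsupp.mapRange_single, hm]
      rw [← Ideal.Quotient.algebraMap_eq, algebraMap_smul]
  have h0 : Function.Surjective (coeffMap M ψ m 0) := by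
    intro y
    choose r hr using fun z => Ideal.Quotient.mk_surjective (b.repr y z)
    refine ⟨∑ z ∈ (b.repr y).support, Finsupp.single z (r z), ?_⟩
    conv_rhs => rw [← b.linearCombination_repr y, Finsupp.linearCombination_apply, Finsupp.sum]
    rw [map_sum]
    refine Finset.sum_congr rfl fun z _ => ?_
    rw [hco, Finsupp.mapRange_single, Finsupp.linearCombination_single, hr]
  have h0' : ∀ w, coeffMap M ψ m 0 w = 0 → ∀ z, w z ∈ I := fun w hw z => by
    rw [hco] at hw
    have h := DFunLike.congr_fun (linearIndependent_iff.1 b.linearIndependent _ hw) z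
    rwa [Finsupp.mapRange_apply, Finsupp.zero_apply, Ideal.Quotient.eq_zero_iff_mem] at h
  have hsurj := coeffMap_surjective I M ψ m hker h0
  obtain ⟨e, he⟩ := exists_equiv_sysLim I M ψ m hsurj (coeffMap_ker I M ψ m hsurj h0')
  refine ⟨⟨Z, ⟨e.symm.trans (freeEquiv I Z)⟩⟩, fun n => ⟨fun y => ?_, Submodule.ext fun y => ?_⟩⟩
  · obtain ⟨v, hv⟩ := hsurj n y
    exact ⟨e (AdicCompletion.of I _ v), ((he 0 n).2 v).trans hv⟩
  · obtain ⟨x, rfl⟩ := e.surjective y
    rw [LinearMap.mem_ker, (he x n).1, mem_smul_top_congr e, mem_pow_smul_top_iff_val]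

end Groth.Agent.DecayLib
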