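import Groth.Agent.DecayLib.Basic
import Mathlib.RingTheory.Filtration
import Mathlib.LinearAlgebra.TensorProduct.Pi
import Mathlib.LinearAlgebra.TensorProduct.RightExactness
import Mathlib.RingTheory.Finiteness.Cardinality
import Mathlib.RingTheory.Noetherian.Basic

/-!
Decaying functions into finite modules over a complete Noetherian ring.
-/

set_option autoImplicit false
universe u v w w'

open W4c5adicflatcompl TensorProduct

namespace Groth.Agent.DecayLib

variable {A : Type u} [CommRing A] [IsNoetherianRing A] (I : Ideal A) {Z : Type v}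
  {M : Type w} [AddCommGroup M] [Module A M] [Module.Finite A M]

theorem decaying_submodule_iff (N : Submodule A M) (f : Z → N) :
    f ∈ decaying I Z N ↔ (fun z => (f z : M)) ∈ decaying I Z M := by
  constructor
  · intro hf n
    refine (hf n).subset fun z hz h => hz ?_
    have h' := Submodule.mem_map_of_mem (f := N.subtype) h
    rw [Submodule.map_smul''] at h'
    exact Submodule.smul_mono le_rfl le_top h'
  · intro hf n
    obtain ⟨c, hc⟩ := Ideal.exists_pow_inf_eq_pow_smul I N
    refine (hf (n + c)).subset fun z hz h => hz ?_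
    have h1 : (f z : M) ∈ I ^ (n + c) • (⊤ : Submodule A M) ⊓ N := ⟨h, (f z).2⟩
    rw [hc (n + c) (Nat.le_add_left c n), Nat.add_sub_cancel] at h1
    have h2 : (f z : M) ∈ Submodule.map N.subtype (I ^ n • ⊤) := by
      rw [Submodule.map_smul'', Submodule.map_top, Submodule.range_subtype]
      exact Submodule.smul_mono le_rfl inf_le_right h1
    obtain ⟨y, hy, hyz⟩ := h2
    rwa [← Subtype.ext (a1 := y) hyz]

variable [IsAdicComplete I A]

theorem exists_decaying_lift {M'' : Type w'} [AddCommGroup M''] [Module A M''] (φ : M →ₗ[A] M'')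
    (hφ : Function.Surjective φ) (g : Z → M'') (hg : g ∈ decaying I Z M'') :
    ∃ f : Z → M, f ∈ decaying I Z M ∧ ∀ z, φ (f z) = g z := by
  classical
  haveI : Module.Finite A M'' := Module.Finite.of_surjective φ hφ
  have hsep : ∀ z, g z ≠ 0 → ∃ k, g z ∉ (I ^ k • ⊤ : Submodule A M'') := by
    intro z hz
    by_contra! h
    refine hz ?_
    rw [← Submodule.mem_bot A, ← Ideal.iInf_pow_smul_eq_bot_of_le_jacobson I (IsAdicComplete.le_jacobson_bot I)]
    exact (Submodule.mem_iInf _).2 h
  have hmap : ∀ k, Submodule.map φ (I ^ k • ⊤) = (I ^ k • ⊤ : Submodule A M'') := fun k => by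
    rw [Submodule.map_smul'', Submodule.map_top, LinearMap.range_eq_top.2 hφ]
  have hex : ∀ z, ∃ x : M, φ x = g z ∧
      ∀ n, x ∉ (I ^ n • ⊤ : Submodule A M) → g z ∉ (I ^ n • ⊤ : Submodule A M'') := by
    intro z
    by_cases hz : g z = 0
    · exact ⟨0, by rw [map_zero, hz], fun n hn => absurd (Submodule.zero_mem _) hn⟩
    let k := Nat.find (hsep z hz)
    have hk : g z ∈ Submodule.map φ (I ^ (k - 1) • ⊤) := by
      rw [hmap]
      rcases Nat.eq_zero_or_pos k with h | h
      · simp [h]
      · by_contra hc
        exact Nat.find_min (hsep z hz) (Nat.sub_lt h Nat.one_pos) hc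
    obtain ⟨x, hx, hxz⟩ := hk
    refine ⟨x, hxz, fun n hn hgn => ?_⟩
    have h1 : k - 1 < n := by
      by_contra! h
      exact hn (pow_smul_top_antitone I h hx)
    exact Nat.find_spec (hsep z hz) (pow_smul_top_antitone I (by omega) hgn)
  choose f hf hf' using hex
  exact ⟨f, fun n => (hg n).subset fun z hz => hf' z n hz, hf⟩

omit [IsAdicComplete I A] [IsNoetherianRing A] [Module.Finite A M] in
theorem lift_map_mem (z : M ⊗[A] decaying I Z A) :
    ((TensorProduct.piScalarRightHom A A M Z) ∘ₗ ((decaying I Z A).subtype.lTensor M)) z ∈ decaying I Z M := by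
  induction z using TensorProduct.induction_on with
  | zero => rw [map_zero]; exact Submodule.zero_mem _
  | tmul m g =>
    refine (fun n => ((g.2 n).subset fun z hz h => hz ?_) : _ ∈ decaying I Z M)
    rw [Ideal.smul_eq_mul, Ideal.mul_top] at h
    rw [LinearMap.comp_apply, LinearMap.lTensor_tmul, TensorProduct.piScalarRightHom_tmul]
    exact Submodule.smul_mem_smul h Submodule.mem_top
  | add x y hx hy => rw [map_add]; exact Submodule.add_mem _ hx hy

omit [IsAdicComplete I A] [IsNoetherianRing A] [Module.Finite A M] in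
theorem lift_map_natural {N : Type w'} [AddCommGroup N] [Module A N] (π : N →ₗ[A] M)
    (y : N ⊗[A] decaying I Z A) (z : Z) :
    ((TensorProduct.piScalarRightHom A A M Z) ∘ₗ ((decaying I Z A).subtype.lTensor M)) (π.rTensor _ y) z =
      π (((TensorProduct.piScalarRightHom A A N Z) ∘ₗ ((decaying I Z A).subtype.lTensor N)) y z) := by
  induction y using TensorProduct.induction_on with
  | zero => simp
  | tmul n g => simp [TensorProduct.piScalarRightHom_tmul]
  | add a b ha hb => simp only [map_add, Pi.add_apply, ha, hb]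

omit [IsAdicComplete I A] [IsNoetherianRing A] in
theorem exists_free_preimage (r : ℕ) (h : Z → (Fin r → A)) (hh : h ∈ decaying I Z (Fin r → A)) :
    ∃ y : (Fin r → A) ⊗[A] decaying I Z A,
      ((TensorProduct.piScalarRightHom A A (Fin r → A) Z) ∘ₗ
        ((decaying I Z A).subtype.lTensor (Fin r → A))) y = h := by
  classical
  let d : Fin r → decaying I Z A := fun i => ⟨fun z => h z i, fun n => (hh n).subset fun z hz h' => hz (by
    have h'' := Submodule.mem_map_of_mem (f := (LinearMap.proj i : (Fin r → A) →ₗ[A] A)) h'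
    rw [Submodule.map_smul''] at h''
    exact Submodule.smul_mono le_rfl le_top h'')⟩
  refine ⟨∑ i, (Pi.single i 1 : Fin r → A) ⊗ₜ[A] d i, funext fun z => funext fun i => ?_⟩
  simp [d, map_sum, Finset.sum_apply, TensorProduct.piScalarRightHom_tmul, Pi.single_apply]

omit [IsAdicComplete I A] [IsNoetherianRing A] in
theorem free_injective (r : ℕ) : Function.Injective
    ((TensorProduct.piScalarRightHom A A (Fin r → A) Z) ∘ₗ
      ((decaying I Z A).subtype.lTensor (Fin r → A))) := by
  classical
  rw [injective_iff_map_eq_zero]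
  intro y hy
  obtain ⟨d, rfl⟩ : ∃ d : Fin r → decaying I Z A, y = ∑ i, (Pi.single i 1 : Fin r → A) ⊗ₜ[A] d i := by
    clear hy
    induction y using TensorProduct.induction_on with
    | zero => exact ⟨0, by simp⟩
    | tmul v g =>
      refine ⟨fun i => v i • g, ?_⟩
      simp only [← smul_tmul, ← sum_tmul]
      congr 1
      exact pi_eq_sum_univ' v
    | add a b ha hb =>
      obtain ⟨c, rfl⟩ := ha
      obtain ⟨e, rfl⟩ := hb
      exact ⟨c + e, by simp [tmul_add, Finset.sum_add_distrib]⟩
  have hd : ∀ i, d i = 0 := fun i => Subtype.ext (funext fun z => by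
    have h := congrFun (congrFun hy z) i
    simpa [map_sum, Finset.sum_apply, TensorProduct.piScalarRightHom_tmul, Pi.single_apply] using h)
  simp [hd]

theorem lift_injective_and_range :
    Function.Injective ((TensorProduct.piScalarRightHom A A M Z) ∘ₗ ((decaying I Z A).subtype.lTensor M)) ∧
      LinearMap.range ((TensorProduct.piScalarRightHom A A M Z) ∘ₗ ((decaying I Z A).subtype.lTensor M)) =
        decaying I Z M := by
  obtain ⟨r, π, hπ⟩ := Module.Finite.exists_fin' A M
  constructor
  · rw [injective_iff_map_eq_zero]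
    intro z hz
    obtain ⟨y, rfl⟩ := LinearMap.rTensor_surjective _ hπ z
    set h := ((TensorProduct.piScalarRightHom A A (Fin r → A) Z) ∘ₗ
      ((decaying I Z A).subtype.lTensor (Fin r → A))) y with hh
    have hK : ∀ a, h a ∈ LinearMap.ker π := fun a => by
      rw [LinearMap.mem_ker, hh, ← lift_map_natural I π y a, hz, Pi.zero_apply]
    haveI : Module.Finite A (LinearMap.ker π) := Module.Finite.of_fg (IsNoetherian.noetherian _)
    obtain ⟨s, σ, hσ⟩ := Module.Finite.exists_fin' A (LinearMap.ker π)
    have hdec : (fun a => (⟨h a, hK a⟩ : LinearMap.ker π)) ∈ decaying I Z (LinearMap.ker π) :=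
      (decaying_submodule_iff I _ _).2 (lift_map_mem I y)
    obtain ⟨h', hh', hσh⟩ := exists_decaying_lift I σ hσ _ hdec
    obtain ⟨w, hw⟩ := exists_free_preimage I s h' hh'
    have hy : y = ((LinearMap.ker π).subtype ∘ₗ σ).rTensor _ w := free_injective I r (funext fun a => by
      rw [lift_map_natural, hw]
      show _ = (LinearMap.ker π).subtype (σ (h' a))
      rw [hσh]
      rfl)
    rw [hy, ← LinearMap.rTensor_comp_apply,
      show π ∘ₗ ((LinearMap.ker π).subtype ∘ₗ σ) = 0 from LinearMap.ext fun v => (σ v).2,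
      LinearMap.rTensor_zero, LinearMap.zero_apply]
  · refine le_antisymm ?_ fun g hg => ?_
    · rintro _ ⟨z, rfl⟩
      exact lift_map_mem I z
    · obtain ⟨h, hh, hπh⟩ := exists_decaying_lift I π hπ g hg
      obtain ⟨y, hy⟩ := exists_free_preimage I r h hh
      exact ⟨π.rTensor _ y, funext fun a => by rw [lift_map_natural, hy, hπh]⟩

end Groth.Agent.DecayLib
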